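import Groth.Agent.H13Grpd.OfScheme
import Mathlib.AlgebraicGeometry.Sites.MorphismProperty
import Mathlib.AlgebraicGeometry.Sites.Etale
import Mathlib.AlgebraicGeometry.Sites.Fpqc
import Mathlib.AlgebraicGeometry.Morphisms.UniversallyOpen
import Mathlib.AlgebraicGeometry.Morphisms.Smooth
import Mathlib.AlgebraicGeometry.Morphisms.Etale
import Mathlib.CategoryTheory.MorphismProperty.Local

/-!
# The largest open over which an equivariant morphism has a local property is invariant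
-/

set_option autoImplicit false
set_option linter.style.haveILetI false
set_option linter.unusedVariables false
set_option backward.isDefEq.respectTransparency false

universe u

open CategoryTheory CategoryTheory.Limits AlgebraicGeometry

namespace Groth.Agent.H06GrpdLocal

variable {S : Scheme.{u}} (G : Grpd.GroupoidScheme S)

theorem prop_snd_comp_iff (P : MorphismProperty Scheme.{u}) [P.RespectsIso] {X Y Y' Y'' : Scheme.{u}}
    (f : X ⟶ Y) (g : Y' ⟶ Y) (k : Y'' ⟶ Y') :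
    P (pullback.snd (pullback.snd f g) k) ↔ P (pullback.snd f (k ≫ g)) := by
  rw [← pullbackLeftPullbackSndIso_hom_snd f g k, P.cancel_left_of_respectsIso]

theorem prop_morphismRestrict_iff (P : MorphismProperty Scheme.{u}) [P.RespectsIso] {X Y : Scheme.{u}}
    (f : X ⟶ Y) (U : Y.Opens) : P (f ∣_ U) ↔ P (pullback.snd f U.ι) := by
  rw [morphismRestrict, P.cancel_left_of_respectsIso]

theorem subset_preimage (Q : MorphismProperty Scheme.{u}) [Q.IsStableUnderBaseChange]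
    [Q.IsStableUnderComposition]
    (hQo : ∀ {X Y : Scheme.{u}} (g : X ⟶ Y) [IsOpenImmersion g], Q g)
    (hQu : ∀ {X Y : Scheme.{u}} (g : X ⟶ Y), Q g → UniversallyOpen g)
    (hQr : ∀ {X Y : Scheme.{u}} (g : X ⟶ Y) (U : Y.Opens), Q (g ≫ 𝟙 Y) → Set.range g ⊆ U →
      ∀ g' : X ⟶ U.toScheme, g' ≫ U.ι = g → Q g')
    (P : MorphismProperty Scheme.{u}) [P.IsLocalAtTarget (Scheme.precoverage Q)]
    (hs : Q G.s) (ht : Q G.t) (hts : Function.Surjective G.t) {X : Scheme.{u}} (f : X ⟶ G.U)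
    (e : pullback f G.s ⟶ pullback f G.t) [IsIso e] (he : e ≫ pullback.snd f G.t = pullback.snd f G.s)
    (W : G.U.Opens) (hW : P (f ∣_ W)) (hmax : ∀ W' : G.U.Opens, P (f ∣_ W') → W' ≤ W) :
    G.t ⁻¹ᵁ W ≤ G.s ⁻¹ᵁ W := by
  let A := G.t ⁻¹ᵁ W
  -- the property of the base change along the target map
  have h1 : P (pullback.snd (pullback.snd f G.t) A.ι) := by
    let tW := G.t ∣_ W
    have htW : Presieve.singleton tW ∈ Scheme.precoverage Q W.toScheme := by
      refine (Scheme.singleton_mem_precoverage_iff Q _).2 ⟨fun w => ?_,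
        MorphismProperty.of_isPullback (isPullback_morphismRestrict G.t W).flip ht⟩
      obtain ⟨r, hr⟩ := hts w.1
      exact ⟨⟨r, show G.t r ∈ W from hr ▸ w.2⟩, Subtype.ext (by simpa [tW] using hr)⟩
    have := MorphismProperty.IsLocalAtTarget.pullbackSnd (P := P) (K := Scheme.precoverage Q) htW
      (Presieve.singleton.mk) ((prop_morphismRestrict_iff P f W).1 hW)
    rw [prop_snd_comp_iff P] at this ⊢
    rwa [morphismRestrict_ι] at this
  -- transport to the source map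
  have h2 : P (pullback.snd f (A.ι ≫ G.s)) := by
    rw [← prop_snd_comp_iff P]
    have : pullback.map (pullback.snd f G.s) A.ι (pullback.snd f G.t) A.ι e (𝟙 _) (𝟙 _)
        (by rw [Category.comp_id, he]) (by simp) ≫ pullback.snd (pullback.snd f G.t) A.ι =
          pullback.snd (pullback.snd f G.s) A.ι := by simp
    rw [← this, P.cancel_left_of_respectsIso]
    exact h1
  -- the image
  let a := A.ι ≫ G.s
  have hQa : Q a := Q.comp_mem _ _ (hQo _) hs
  haveI : UniversallyOpen a := hQu _ hQa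
  let V : G.U.Opens := ⟨Set.range a, a.isOpenMap.isOpen_range⟩
  let a' : A.toScheme ⟶ V.toScheme := IsOpenImmersion.lift V.ι a (by simp [V])
  have ha' : a' ≫ V.ι = a := IsOpenImmersion.lift_fac _ _ _
  have hcov : Presieve.singleton a' ∈ Scheme.precoverage Q V.toScheme := by
    refine (Scheme.singleton_mem_precoverage_iff Q _).2 ⟨fun v => ?_, hQr a V (by simpa using hQa) subset_rfl a' ha'⟩
    obtain ⟨x, hx⟩ := v.2
    exact ⟨x, Subtype.ext (((Scheme.Hom.comp_apply a' V.ι x).symm.trans (by rw [ha'])).trans hx)⟩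
  have h3 : P (f ∣_ V) := by
    rw [prop_morphismRestrict_iff P]
    refine MorphismProperty.IsLocalAtTarget.of_forall_pullbackSnd (K := Scheme.precoverage Q) hcov ?_
    rintro U g hg ⟨⟩
    rw [prop_snd_comp_iff P, ha']
    exact h2
  intro r hr
  exact hmax V h3 ⟨⟨r, hr⟩, rfl⟩

theorem preimage_eq (Q : MorphismProperty Scheme.{u}) [Q.IsStableUnderBaseChange]
    [Q.IsStableUnderComposition]
    (hQo : ∀ {X Y : Scheme.{u}} (g : X ⟶ Y) [IsOpenImmersion g], Q g)
    (hQu : ∀ {X Y : Scheme.{u}} (g : X ⟶ Y), Q g → UniversallyOpen g)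
    (P : MorphismProperty Scheme.{u}) [P.IsLocalAtTarget (Scheme.precoverage Q)]
    (hs : Presieve.singleton G.s ∈ Scheme.precoverage Q G.U)
    (ht : Presieve.singleton G.t ∈ Scheme.precoverage Q G.U) {X : Scheme.{u}} (f : X ⟶ G.U)
    (e : pullback f G.s ⟶ pullback f G.t) [IsIso e] (he : e ≫ pullback.snd f G.t = pullback.snd f G.s)
    (W : G.U.Opens) (hW : P (f ∣_ W)) (hmax : ∀ W' : G.U.Opens, P (f ∣_ W') → W' ≤ W) :
    G.s ⁻¹ᵁ W = G.t ⁻¹ᵁ W := by
  have hQr : ∀ {X Y : Scheme.{u}} (g : X ⟶ Y) (U : Y.Opens), Q (g ≫ 𝟙 Y) → Set.range g ⊆ U →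
      ∀ g' : X ⟶ U.toScheme, g' ≫ U.ι = g → Q g' := by
    intro X Y g U hg hr g' hg'
    rw [Category.comp_id] at hg
    refine MorphismProperty.of_isPullback (f' := 𝟙 X) (f := U.ι) ?_ hg
    refine ⟨⟨by rw [Category.id_comp, hg']⟩, ⟨PullbackCone.IsLimit.mk _ (fun c => c.fst)
      (fun c => by simp) (fun c => ?_) (fun c m h₁ h₂ => by simpa using h₁)⟩⟩
    rw [← cancel_mono U.ι, Category.assoc, hg', c.condition]
  have hts := ((Scheme.singleton_mem_precoverage_iff Q _).1 ht).1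
  have h := subset_preimage G Q hQo hQu hQr P ((Scheme.singleton_mem_precoverage_iff Q _).1 hs).2
    ((Scheme.singleton_mem_precoverage_iff Q _).1 ht).2 hts f e he W hW hmax
  refine le_antisymm (fun r hr => ?_) h
  have hi : G.t (G.i r) = G.s r := by rw [← Scheme.Hom.comp_apply, G.i_t]
  have hi' : G.s (G.i r) = G.t r := by rw [← Scheme.Hom.comp_apply, G.i_s]
  have := h (show G.i r ∈ G.t ⁻¹ᵁ W from show G.t (G.i r) ∈ W from hi ▸ hr)
  show G.t r ∈ W
  rw [← hi']
  exact this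

theorem exists_iso_source : ∃ (e : pullback G.s G.s ⟶ pullback G.s G.t) (_ : IsIso e),
    e ≫ pullback.snd G.s G.t = pullback.snd G.s G.s :=
  ⟨(H13Grpd.isPullback_comp G).isoPullback.inv, inferInstance,
    (H13Grpd.isPullback_comp G).isoPullback_inv_snd⟩

section Stabilizer

variable {G}

/-- Composition of arrows. -/
noncomputable irreducible_def mul {T : Scheme.{u}} (α β : T ⟶ G.R) (h : α ≫ G.s = β ≫ G.t) : T ⟶ G.R :=
  pullback.lift α β h ≫ G.c

theorem mul_congr {T : Scheme.{u}} {α α' β β' : T ⟶ G.R} (h : α ≫ G.s = β ≫ G.t)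
    (e₁ : α = α') (e₂ : β = β') : mul α β h = mul α' β' (e₁ ▸ e₂ ▸ h) := by
  subst e₁ e₂; rfl

theorem mul_s {T : Scheme.{u}} (α β : T ⟶ G.R) (h : α ≫ G.s = β ≫ G.t) : mul α β h ≫ G.s = β ≫ G.s := by
  rw [mul_def]; exact G.comp_s α β h

theorem mul_t {T : Scheme.{u}} (α β : T ⟶ G.R) (h : α ≫ G.s = β ≫ G.t) : mul α β h ≫ G.t = α ≫ G.t := by
  rw [mul_def]; exact G.comp_t α β h

theorem mul_assoc' {T : Scheme.{u}} (α β γ : T ⟶ G.R) (h₁ : α ≫ G.s = β ≫ G.t) (h₂ : β ≫ G.s = γ ≫ G.t) :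
    mul (mul α β h₁) γ ((mul_s α β h₁).trans h₂) = mul α (mul β γ h₂) (h₁.trans (mul_t β γ h₂).symm) := by
  simp only [mul_def]
  exact G.assoc α β γ h₁ h₂

theorem mul_unit {T : Scheme.{u}} (α δ : T ⟶ G.R) (h : α ≫ G.s = δ ≫ G.t) (hδ : δ = α ≫ G.s ≫ G.e) :
    mul α δ h = α := by
  subst hδ
  rw [mul_def]
  exact G.comp_e α

theorem unit_mul {T : Scheme.{u}} (α δ : T ⟶ G.R) (h : δ ≫ G.s = α ≫ G.t) (hδ : δ = α ≫ G.t ≫ G.e) :
    mul δ α h = α := by
  subst hδ
  rw [mul_def]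
  exact G.e_comp α

theorem inv_mul_cancel' {T : Scheme.{u}} (α γ : T ⟶ G.R) (h : α ≫ G.s = γ ≫ G.t) :
    mul (α ≫ G.i) (mul α γ h) (by rw [mul_t, Category.assoc, G.i_s]) = γ := by
  rw [← mul_assoc' (α ≫ G.i) α γ (by rw [Category.assoc, G.i_s]) h]
  refine unit_mul γ _ _ (((mul_def _ _ _).trans (G.i_comp α)).trans ?_)
  rw [← Category.assoc, h, Category.assoc]

theorem mul_inv_cancel' {T : Scheme.{u}} (α γ : T ⟶ G.R) (h : γ ≫ G.s = α ≫ G.t) :
    mul (mul γ α h) (α ≫ G.i) (by rw [mul_s, Category.assoc, G.i_t]) = γ := by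
  rw [mul_assoc' γ α (α ≫ G.i) h (by rw [Category.assoc, G.i_t])]
  refine mul_unit γ _ _ (((mul_def _ _ _).trans (G.comp_i α)).trans ?_)
  rw [← Category.assoc, ← h, Category.assoc]

theorem comp_mul {T T' : Scheme.{u}} (f : T' ⟶ T) (a b : T ⟶ G.R) (h : a ≫ G.s = b ≫ G.t) :
    f ≫ mul a b h = mul (f ≫ a) (f ≫ b) (by rw [Category.assoc, h, Category.assoc]) := by
  simp only [mul_def]
  rw [← Category.assoc]
  congr 1
  apply pullback.hom_ext <;> simp

/-- Conjugation `α γ α⁻¹` of a loop at the source of `α`. -/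
noncomputable irreducible_def conj {T : Scheme.{u}} (α γ : T ⟶ G.R) (hγt : γ ≫ G.t = α ≫ G.s)
    (hγs : γ ≫ G.s = α ≫ G.s) : T ⟶ G.R :=
  mul (mul α γ hγt.symm) (α ≫ G.i) (by rw [mul_s, Category.assoc, G.i_t]; exact hγs)

/-- Conjugation `α⁻¹ γ α` of a loop at the target of `α`. -/
noncomputable irreducible_def conj' {T : Scheme.{u}} (α γ : T ⟶ G.R) (hγt : γ ≫ G.t = α ≫ G.t)
    (hγs : γ ≫ G.s = α ≫ G.t) : T ⟶ G.R :=
  mul (α ≫ G.i) (mul γ α hγs) (by rw [mul_t, Category.assoc, G.i_s]; exact hγt.symm)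

theorem conj_t {T : Scheme.{u}} (α γ : T ⟶ G.R) (hγt : γ ≫ G.t = α ≫ G.s)
    (hγs : γ ≫ G.s = α ≫ G.s) : conj α γ hγt hγs ≫ G.t = α ≫ G.t := by
  rw [conj_def, mul_t, mul_t]

theorem conj_s {T : Scheme.{u}} (α γ : T ⟶ G.R) (hγt : γ ≫ G.t = α ≫ G.s)
    (hγs : γ ≫ G.s = α ≫ G.s) : conj α γ hγt hγs ≫ G.s = α ≫ G.t := by
  rw [conj_def, mul_s, Category.assoc, G.i_s]

theorem conj'_t {T : Scheme.{u}} (α γ : T ⟶ G.R) (hγt : γ ≫ G.t = α ≫ G.t)
    (hγs : γ ≫ G.s = α ≫ G.t) : conj' α γ hγt hγs ≫ G.t = α ≫ G.s := by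
  rw [conj'_def, mul_t, Category.assoc, G.i_t]

theorem conj'_s {T : Scheme.{u}} (α γ : T ⟶ G.R) (hγt : γ ≫ G.t = α ≫ G.t)
    (hγs : γ ≫ G.s = α ≫ G.t) : conj' α γ hγt hγs ≫ G.s = α ≫ G.s := by
  rw [conj'_def, mul_s, mul_s]

theorem conj'_conj {T : Scheme.{u}} (α γ : T ⟶ G.R) (hγt : γ ≫ G.t = α ≫ G.s)
    (hγs : γ ≫ G.s = α ≫ G.s) :
    conj' α (conj α γ hγt hγs) (conj_t α γ hγt hγs) (conj_s α γ hγt hγs) = γ := by
  have h : mul (conj α γ hγt hγs) α (conj_s α γ hγt hγs) = mul α γ hγt.symm := by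
    simp only [conj_def]
    rw [mul_assoc' _ _ α _ (by rw [Category.assoc, G.i_s])]
    refine mul_unit _ _ _ (((mul_def _ _ _).trans (G.i_comp α)).trans ?_)
    rw [← Category.assoc (mul α γ _), mul_s, hγs, Category.assoc]
  rw [conj'_def, mul_congr _ rfl h]
  exact inv_mul_cancel' α γ hγt.symm

theorem conj_conj' {T : Scheme.{u}} (α γ : T ⟶ G.R) (hγt : γ ≫ G.t = α ≫ G.t)
    (hγs : γ ≫ G.s = α ≫ G.t) :
    conj α (conj' α γ hγt hγs) (conj'_t α γ hγt hγs) (conj'_s α γ hγt hγs) = γ := by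
  have h : mul α (conj' α γ hγt hγs) (conj'_t α γ hγt hγs).symm = mul γ α hγs := by
    simp only [conj'_def]
    rw [← mul_assoc' α _ _ (by rw [Category.assoc, G.i_t]) _]
    refine unit_mul _ _ _ (((mul_def _ _ _).trans (G.comp_i α)).trans ?_)
    rw [← Category.assoc (mul γ α _), mul_t, hγt, Category.assoc]
  rw [conj_def, mul_congr _ h rfl]
  exact mul_inv_cancel' α γ hγs

theorem conj_congr {T : Scheme.{u}} {α α' γ γ' : T ⟶ G.R} (hγt : γ ≫ G.t = α ≫ G.s)
    (hγs : γ ≫ G.s = α ≫ G.s) (e₁ : α = α') (e₂ : γ = γ') :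
    conj α γ hγt hγs = conj α' γ' (e₁ ▸ e₂ ▸ hγt) (e₁ ▸ e₂ ▸ hγs) := by
  subst e₁ e₂; rfl

theorem conj'_congr {T : Scheme.{u}} {α α' γ γ' : T ⟶ G.R} (hγt : γ ≫ G.t = α ≫ G.t)
    (hγs : γ ≫ G.s = α ≫ G.t) (e₁ : α = α') (e₂ : γ = γ') :
    conj' α γ hγt hγs = conj' α' γ' (e₁ ▸ e₂ ▸ hγt) (e₁ ▸ e₂ ▸ hγs) := by
  subst e₁ e₂; rfl

theorem comp_conj {T T' : Scheme.{u}} (f : T' ⟶ T) (α γ : T ⟶ G.R) (hγt : γ ≫ G.t = α ≫ G.s)
    (hγs : γ ≫ G.s = α ≫ G.s) : f ≫ conj α γ hγt hγs = conj (f ≫ α) (f ≫ γ)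
      (by rw [Category.assoc, hγt, Category.assoc]) (by rw [Category.assoc, hγs, Category.assoc]) := by
  simp only [conj_def]
  rw [comp_mul]
  exact mul_congr _ (comp_mul f α γ _) (Category.assoc _ _ _).symm

theorem comp_conj' {T T' : Scheme.{u}} (f : T' ⟶ T) (α γ : T ⟶ G.R) (hγt : γ ≫ G.t = α ≫ G.t)
    (hγs : γ ≫ G.s = α ≫ G.t) : f ≫ conj' α γ hγt hγs = conj' (f ≫ α) (f ≫ γ)
      (by rw [Category.assoc, hγt, Category.assoc]) (by rw [Category.assoc, hγs, Category.assoc]) := by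
  simp only [conj'_def]
  rw [comp_mul]
  exact mul_congr _ (Category.assoc _ _ _).symm (comp_mul f γ α _)

variable (G)

/-- The inclusion of the stabilizer into the arrows. -/
noncomputable def stFst : G.stabilizer ⟶ G.R := pullback.fst G.j G.diag

theorem stFst_comp : stFst G ≫ G.t = G.stabilizerToU ∧ stFst G ≫ G.s = G.stabilizerToU := by
  have h := pullback.condition (f := G.j) (g := G.diag)
  refine ⟨?_, ?_⟩
  · have := congr($h ≫ pullback.fst G.pU G.pU)
    simp only [Grpd.GroupoidScheme.j, Grpd.GroupoidScheme.diag, Category.assoc, pullback.lift_fst,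
      Category.comp_id] at this
    exact this
  · have := congr($h ≫ pullback.snd G.pU G.pU)
    simp only [Grpd.GroupoidScheme.j, Grpd.GroupoidScheme.diag, Category.assoc, pullback.lift_snd,
      Category.comp_id] at this
    exact this

theorem stabilizer_ext {T : Scheme.{u}} {x y : T ⟶ G.stabilizer} (h : x ≫ stFst G = y ≫ stFst G) :
    x = y := by
  refine pullback.hom_ext h ?_
  show x ≫ G.stabilizerToU = y ≫ G.stabilizerToU
  rw [← (stFst_comp G).1, ← Category.assoc, h, Category.assoc]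

theorem exists_stabilizer_lift {T : Scheme.{u}} (γ : T ⟶ G.R) (h : γ ≫ G.t = γ ≫ G.s) :
    ∃ x : T ⟶ G.stabilizer, x ≫ stFst G = γ ∧ x ≫ G.stabilizerToU = γ ≫ G.s := by
  refine ⟨pullback.lift γ (γ ≫ G.s) ?_, pullback.lift_fst _ _ _, pullback.lift_snd _ _ _⟩
  apply pullback.hom_ext <;> simp [Grpd.GroupoidScheme.j, Grpd.GroupoidScheme.diag, h]

theorem exists_iso_stabilizer : ∃ (e : pullback G.stabilizerToU G.s ⟶ pullback G.stabilizerToU G.t) (_ : IsIso e),
    e ≫ pullback.snd G.stabilizerToU G.t = pullback.snd G.stabilizerToU G.s := by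
  obtain ⟨h1, h2⟩ := stFst_comp G
  let α := pullback.snd G.stabilizerToU G.s
  let γ := pullback.fst G.stabilizerToU G.s ≫ stFst G
  have hγt : γ ≫ G.t = α ≫ G.s := by rw [Category.assoc, h1]; exact pullback.condition
  have hγs : γ ≫ G.s = α ≫ G.s := by rw [Category.assoc, h2]; exact pullback.condition
  obtain ⟨x, hx1, hx2⟩ := exists_stabilizer_lift G (conj α γ hγt hγs)
    ((conj_t α γ hγt hγs).trans (conj_s α γ hγt hγs).symm)
  let α' := pullback.snd G.stabilizerToU G.t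
  let γ' := pullback.fst G.stabilizerToU G.t ≫ stFst G
  have hγt' : γ' ≫ G.t = α' ≫ G.t := by rw [Category.assoc, h1]; exact pullback.condition
  have hγs' : γ' ≫ G.s = α' ≫ G.t := by rw [Category.assoc, h2]; exact pullback.condition
  obtain ⟨y, hy1, hy2⟩ := exists_stabilizer_lift G (conj' α' γ' hγt' hγs')
    ((conj'_t α' γ' hγt' hγs').trans (conj'_s α' γ' hγt' hγs').symm)
  let e : pullback G.stabilizerToU G.s ⟶ pullback G.stabilizerToU G.t :=
    pullback.lift x α (hx2.trans (conj_s α γ hγt hγs))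
  let e' : pullback G.stabilizerToU G.t ⟶ pullback G.stabilizerToU G.s :=
    pullback.lift y α' (hy2.trans (conj'_s α' γ' hγt' hγs'))
  have ea : e ≫ α' = α := pullback.lift_snd _ _ _
  have eg : e ≫ γ' = conj α γ hγt hγs := (pullback.lift_fst_assoc _ _ _ _).trans hx1
  have ea' : e' ≫ α = α' := pullback.lift_snd _ _ _
  have eg' : e' ≫ γ = conj' α' γ' hγt' hγs' := (pullback.lift_fst_assoc _ _ _ _).trans hy1
  refine ⟨e, ⟨e', ?_, ?_⟩, pullback.lift_snd _ _ _⟩
  · refine pullback.hom_ext (stabilizer_ext G ?_) ?_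
    · rw [Category.assoc, Category.assoc, Category.id_comp,
        show e' ≫ pullback.fst G.stabilizerToU G.s ≫ stFst G = conj' α' γ' hγt' hγs' from eg',
        comp_conj']
      exact (conj'_congr _ _ ea eg).trans (conj'_conj α γ hγt hγs)
    · rw [Category.assoc, Category.id_comp]
      exact (congrArg (e ≫ ·) ea').trans ea
  · refine pullback.hom_ext (stabilizer_ext G ?_) ?_
    · rw [Category.assoc, Category.assoc, Category.id_comp,
        show e ≫ pullback.fst G.stabilizerToU G.t ≫ stFst G = conj α γ hγt hγs from eg, comp_conj]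
      exact (conj_congr _ _ ea' eg').trans (conj_conj' α' γ' hγt' hγs')
    · rw [Category.assoc, Category.id_comp]
      exact (congrArg (e' ≫ ·) ea).trans ea'

end Stabilizer

/-- The covering morphisms of the étale, smooth and fppf topologies. -/
theorem preimage_eq_of_covering {P : MorphismProperty Scheme.{u}} (K : Precoverage Scheme.{u})
    (hK : K = Scheme.zariskiPrecoverage ∨ K = Scheme.etalePrecoverage ∨ K = Scheme.precoverage @Smooth ∨
      K = Scheme.fppfPrecoverage) [hP : P.IsLocalAtTarget K]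
    (hs : Presieve.singleton G.s ∈ K G.U) (ht : Presieve.singleton G.t ∈ K G.U) {X : Scheme.{u}}
    (f : X ⟶ G.U) (e : pullback f G.s ⟶ pullback f G.t) [IsIso e]
    (he : e ≫ pullback.snd f G.t = pullback.snd f G.s)
    (W : G.U.Opens) (hW : P (f ∣_ W)) (hmax : ∀ W' : G.U.Opens, P (f ∣_ W') → W' ≤ W) :
    G.s ⁻¹ᵁ W = G.t ⁻¹ᵁ W := by
  rcases hK with rfl | rfl | rfl | rfl
  · exact preimage_eq G @IsOpenImmersion (fun g _ => inferInstance) (fun g hg => inferInstance) P hs ht f e he W hW hmax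
  · haveI : P.IsLocalAtTarget (Scheme.precoverage @Etale) := hP
    exact preimage_eq G @Etale (fun g _ => inferInstance) (fun g hg => inferInstance) P hs ht f e he W hW hmax
  · exact preimage_eq G @Smooth (fun g _ => inferInstance) (fun g hg => inferInstance) P hs ht f e he W hW hmax
  · haveI : P.IsLocalAtTarget (Scheme.precoverage (@Flat ⊓ @LocallyOfFinitePresentation)) := hP
    exact preimage_eq G (@Flat ⊓ @LocallyOfFinitePresentation) (fun g _ => ⟨inferInstance, inferInstance⟩)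
      (fun g hg => by haveI := hg.1; haveI := hg.2; infer_instance) P hs ht f e he W hW hmax

end Groth.Agent.H06GrpdLocal
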